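import Cfsg.Agent.H569.PV.LyFive
import Cfsg.Agent.H116.LyFive.Row

/-!
# S4555 and S4559, sporadic row `Ly`, `p = 5` (helper569)
-/

set_option autoImplicit false

namespace Cfsg.Agent.H569.PV.LyFiveRow

open Cfsg Subgroup Cfsg.Agent.H620.PNorm

/-- **S4555, S4559 : `Ly`, `p = 5`.** -/
theorem ly_5 (hK : H995.CopEngine.AllKnown.{0}) {K : Type*} [Group K] (h : Spor.IsoLy K) : VOrdP 5 K :=
  LyFive.ly_5_of_nb h
    (H116.LyFive.nb_of hK (fun _ hx => H613.Ly5.ThirtyOne.card_centralizer31 ⟨MulEquiv.refl _⟩ hx) h)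

end Cfsg.Agent.H569.PV.LyFiveRow
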