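import Cfsg.Agent.H678.PV.BlkVan
import Cfsg.Agent.H678.Codeg
import Cfsg.Agent.H681.Van.McLFive
import Cfsg.Agent.CpAutLy.Row
import Cfsg.Agent.TypeM.OutLyFin

/-!
# S4555 and S4559, sporadic row `Ly`, `p = 3` (helper569)

The elements of order 3 of `Ly` of type `3^3` in `2.A₁₁` are vanishing: a 3-block with defect group `⟨x⟩`, `C(x) = 3.McL`.
-/

set_option autoImplicit false

namespace Cfsg.Agent.H569.PV.LyThree

open Cfsg Subgroup Equiv
open Cfsg.Agent.SporRec.TwoAn Cfsg.Agent.TypeM.Two Cfsg.Agent.TypeM.McLFromLy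
open Cfsg.Agent.CpAutLy.Base Cfsg.Agent.CpAutLy.Types Cfsg.Agent.CpAutLy.Row Cfsg.Agent.H620.PNorm Cfsg.Agent.H665.NoPQ

/-- the order of the centralizer of an involution of `2.A₈` type is divisible by 7 -/
theorem seven_dvd {G : Type*} [Group G] [Finite G] (L : MT 8 G) {u : G} (h1 : u * u = 1) (h2 : u ≠ 1) :
    7 ∣ Nat.card (centralizer ({u} : Set G)) := by
  obtain ⟨g, hg⟩ := L.one u h1 h2
  have h3 : Nat.card (centralizer ({L.t} : Set G)) = Nat.card (centralizer ({u} : Set G)) :=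
    Cfsg.Agent.CpAutLy.McLThree.card_cent_conj hg
  rw [← h3]
  have h4 : Nat.card L.K.π.range ∣ Nat.card (centralizer ({L.t} : Set G)) := card_range_dvd _
  rw [L.K.range_eq, nat_card_alternatingGroup, Nat.card_fin] at h4
  exact (by decide : 7 ∣ Nat.factorial 8 / 2).trans h4

theorem seven_dvd_nn {x₀ : Cfsg.Spor.Ly} (h₀ : Three x₀) {s : Cfsg.Spor.Ly} (hs : orderOf s = 2) (hsx : s * x₀ = x₀ * s) :
    7 ∣ nn x₀ s := by
  have hfin : Finite Cfsg.Spor.Ly := Cfsg.Agent.Ly.Setup.finite_ly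
  obtain ⟨-, -, -, ⟨L⟩⟩ := Cfsg.Agent.TypeM.FactsMcL.facts h₀.quot
  let s' : ↥(centralizer ({x₀} : Set Cfsg.Spor.Ly)) := ⟨s, mem_centralizer_singleton_iff.2 hsx⟩
  have hs' : orderOf s' = 2 := by rw [← Subgroup.orderOf_coe]; exact hs
  have hne : s' ∉ center ↥(centralizer ({x₀} : Set Cfsg.Spor.Ly)) := fun hc => by
    obtain ⟨i, hi⟩ := center_le h₀ hc
    have h1 : orderOf (x₀ ^ i) ∣ 3 := by
      apply orderOf_dvd_of_pow_eq_one
      have h1 : x₀ ^ 3 = 1 := by rw [← h₀.ord, pow_orderOf_eq_one]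
      rw [← zpow_natCast, ← zpow_mul, mul_comm, zpow_mul, zpow_natCast, h1, one_zpow]
    rw [← hi] at h1
    change orderOf s ∣ 3 at h1
    rw [hs] at h1
    revert h1
    decide
  have h2 := orderOf_mk Nat.prime_two hs' hne
  obtain ⟨h3, h4⟩ := MT.sq_of_orderOf h2
  rw [← nn_eq' s']
  exact (seven_dvd L h3 h4).trans (card_cent_quot s')

theorem nn_eq_of {x₀ y s : Cfsg.Spor.Ly} (h : centralizer ({y} : Set Cfsg.Spor.Ly) = centralizer {x₀}) :
    nn y s = nn x₀ s := by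
  unfold nn
  rw [h]

/-- an element of type `3^3` -/
theorem exists_type (L : MT 11 Cfsg.Spor.Ly) : ∃ y : Cfsg.Spor.Ly, orderOf y = 3 ∧ L.t * y = y * L.t ∧ nn y L.t = 324 := by
  let σ : Perm (Fin 11) := (swap 0 1 * swap 1 2) * (swap 3 4 * swap 4 5) * (swap 6 7 * swap 7 8)
  have hσ : σ ∈ alternatingGroup (Fin 11) := by
    rw [Equiv.Perm.mem_alternatingGroup]
    decide +kernel
  have hty : σ.cycleType = {3, 3, 3} := by decide +kernel
  rw [← L.K.range_eq] at hσ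
  obtain ⟨y0, hy0⟩ := hσ
  have hσ3 : σ ^ 3 = 1 := by decide +kernel
  have h1 : L.K.π (y0 ^ 4) = σ := by
    rw [map_pow, hy0, pow_succ, hσ3, one_mul]
  have h2 : (y0 ^ 4) ^ 3 = 1 := by
    have h3 : L.K.π (y0 ^ 3) = 1 := by rw [map_pow, hy0, hσ3]
    have h4 : (y0 ^ 3) ^ 2 = 1 := by
      rcases (L.K.ker _).1 h3 with h | h
      · rw [h, one_pow]
      · rw [h, pow_two, L.K.z_mul_z]
    calc (y0 ^ 4) ^ 3 = ((y0 ^ 3) ^ 2) ^ 2 := by rw [← pow_mul, ← pow_mul, ← pow_mul]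
      _ = 1 := by rw [h4, one_pow]
  have h3 : y0 ^ 4 ≠ 1 := by
    intro h
    rw [h, map_one] at h1
    rw [← h1, Perm.cycleType_one] at hty
    revert hty
    decide
  have : Fact (Nat.Prime 3) := ⟨Nat.prime_three⟩
  have ho : orderOf ((y0 ^ 4 : centralizer ({L.t} : Set Cfsg.Spor.Ly)) : Cfsg.Spor.Ly) = 3 := by
    rw [Subgroup.orderOf_coe]
    exact orderOf_eq_prime h2 h3
  have hc : L.t * ((y0 ^ 4 : centralizer ({L.t} : Set Cfsg.Spor.Ly)) : Cfsg.Spor.Ly) =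
      ((y0 ^ 4 : centralizer ({L.t} : Set Cfsg.Spor.Ly)) : Cfsg.Spor.Ly) * L.t := (L.mem_iff.1 (y0 ^ 4).2).symm
  refine ⟨_, ho, hc, ?_⟩
  have hxc : xc hc = y0 ^ 4 := rfl
  rcases Cfsg.Agent.CpAutLy.Types.cases L ho hc with h | h | h
  · exfalso
    have h5 := h.1
    rw [hxc, h1, hty] at h5
    revert h5
    decide
  · exfalso
    have h5 := h.1
    rw [hxc, h1, hty] at h5
    revert h5
    decide
  · exact h.2

/-- **`Ly`, `p = 3`.** -/
theorem vOrdP_model : VOrdP 3 Cfsg.Spor.Ly := by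
  have hfin : Finite Cfsg.Spor.Ly := Cfsg.Agent.Ly.Setup.finite_ly
  have hp : Fact (Nat.Prime 3) := ⟨Nat.prime_three⟩
  obtain ⟨x₀, h₀⟩ := exists_three
  obtain ⟨L⟩ := Cfsg.Agent.TypeM.FactsLy.exists_mt_ly
  obtain ⟨M, hM⟩ := Cfsg.Agent.Blocks.Knorr.exists_isPModular 3
  obtain ⟨ϑ, hϑ⟩ := Cfsg.Agent.H681.Van.McLFive.hasDZ_three h₀.quot
  obtain ⟨B, hB, hQ⟩ := H678.PV.exists_block_one hM h₀.ord
    (H686.CharKit.infl (center ↥(centralizer ({x₀} : Set Cfsg.Spor.Ly))) ϑ) (by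
      rw [H678.Codeg.charDegree_infl, hϑ, card_eq_card_quotient_mul_card_subgroup (center ↥(centralizer ({x₀} : Set Cfsg.Spor.Ly))),
        Nat.factorization_mul Nat.card_pos.ne' Nat.card_pos.ne', Finsupp.add_apply, h₀.zcard,
        Nat.Prime.factorization_self Nat.prime_three])
  obtain ⟨y, hy, hty, hn⟩ := exists_type L
  refine ⟨y, hy, H678.PV.vz_of_block hM hB hQ ⟨1, by rw [hy, pow_one]⟩ fun α hα => ?_⟩
  obtain ⟨g, rfl⟩ := Cfsg.Agent.TypeM.OutLyFin.inner_ly α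
  rw [MulAut.conj_apply] at hα
  have hy' : orderOf (g * y * g⁻¹) = 3 := by
    rw [Cfsg.Agent.CpAutLy.McLThree.orderOf_conj', hy]
  have hz : zpowers (g * y * g⁻¹) = zpowers x₀ := by
    apply Subgroup.eq_of_le_of_card_ge (zpowers_le.2 hα)
    rw [Nat.card_zpowers, Nat.card_zpowers, h₀.ord, hy']
  have hcz : centralizer ({g * y * g⁻¹} : Set Cfsg.Spor.Ly) = centralizer {x₀} := by
    rw [H870.IMLocal.centralizer_zpowers, H870.IMLocal.centralizer_zpowers x₀, hz]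
  have h1 : nn (g * y * g⁻¹) (g * L.t * g⁻¹) = 324 := by rw [nn_conj, hn]
  rw [nn_eq_of hcz] at h1
  have h2 : g * L.t * g⁻¹ ∈ centralizer ({x₀} : Set Cfsg.Spor.Ly) := by
    rw [← hcz, mem_centralizer_singleton_iff]
    exact Cfsg.Agent.CpAutLy.McLThree.conj_comm g hty
  have h3 := seven_dvd_nn h₀ (by rw [Cfsg.Agent.CpAutLy.McLThree.orderOf_conj']; exact L.orderOf_t)
    (mem_centralizer_singleton_iff.1 h2)
  rw [h1] at h3
  revert h3
  decide

/-- **S4555, S4559 : `Ly`, `p = 3`.** -/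
theorem ly_3 {K : Type*} [Group K] (h : Spor.IsoLy K) : VOrdP 3 K := by
  obtain ⟨e⟩ := h
  exact vOrdP_model.mulEquiv e.symm

end Cfsg.Agent.H569.PV.LyThree
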